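set_option autoImplicit false
namespace Cfsg.Agent.Lib.Helper6.TCD.HNP2Wa
noncomputable def WI (i : Nat) : Nat := Nat.land (Nat.shiftRight 0x4300018010b0005c4c2a2415110a880543c2a1c150d0a860542c2a1415090a840541c2a0c15050a820540c2a0415010a800504c282414110a080503c281c140d0a060502c281414090a040501c280c14050a020500c280414010a00054c0265e132e099684cb02656132a099484ca0264e1326099284c9026461322099084c80263e131e098e84c702636131a098c84c60262e1316098a84c5026261312098884c40261e130e098684c302616130a098484c20260e1306098284c1026061302098084c002460122f0917048b42458122b0915048a424501227091304894244812230911048842440121f090f048742438121b090d0486424301217090b04854242812130909048442420120f0907048342418120b0905048242410120709030481424081203090104804240013130889044442220110f0887044342218110b0885044242210110708830441422081103088104404220010130809040442020100f0807040342018100b0805040242010100708030401420081003080104004200011010780038041c000e00068282c1016060b02058082c00140a0a0405018280814020a0005808240010020800048301c140e080703038101c040e0006060302818100c0606020300818000e060502028081400080604020200810000a0a0304018180c0806020300010280810040602020100808000600000000 (Nat.mul 17 (Nat.land i 255))) 131071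
end Cfsg.Agent.Lib.Helper6.TCD.HNP2Wa
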