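import Cfsg.Agent.Lib.Helper6.TCD.HNP2Wa.SH
import Cfsg.Agent.Lib.Helper6.TCD.HNP2Wa.SC
import Cfsg.Agent.Lib.Helper6.TCD.HNP2Wa.NH
import Cfsg.Agent.Lib.Helper6.TCD.HNP2Wa.NC
import Cfsg.Agent.Lib.Helper6.TCD.HNP2Wa.WD
import Cfsg.Agent.Lib.Helper6.TCD.HNP2Wa.WI
set_option autoImplicit false
namespace Cfsg.Agent.Lib.Helper6.TCD.HNP2Wa
def n : Nat := 3570
def ncol : Nat := 5
def nrw : Nat := 239
def nw : Nat := 241
def tmax : Nat := 14696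
def INV : Nat := 271105
def N : Nat := 352
end Cfsg.Agent.Lib.Helper6.TCD.HNP2Wa
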